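import Groth.Agent.PicFam.Basic
import Groth.Agent.PicRoot.Family
import Groth.Agent.ThickPic.Formal
import Groth.Agent.S11764

/-!
Families of invertible modules on a proper scheme with vanishing `H¹(O)` are constant.
-/

set_option autoImplicit false
set_option backward.isDefEq.respectTransparency false
set_option backward.isDefEq.respectTransparency.types false
set_option linter.style.haveILetI false
set_option linter.unusedSectionVars false
set_option maxHeartbeats 1000000

universe u

open CategoryTheory CategoryTheory.Limits MonoidalCategory CartesianMonoidalCategory AlgebraicGeometry TopologicalSpace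
open IsLocalRing
open Groth.Agent.W7Cube (pull pull_pull pull_cls)
open Groth.Agent.AVRat (fib fib_map pt)
open Groth.Agent.QC (res)
open ProjMor (eta)
open TMul (IsGen)

noncomputable section

namespace Groth.Agent.PicH1

attribute [local instance] W7Cube.law

variable {k : Type u} [Field k] (A : Over (Spec (CommRingCat.of k))) [IsProper A.hom]
  {T : Over (Spec (CommRingCat.of k))} [LocallyOfFiniteType T.hom]

set_option maxHeartbeats 4000000 in
/-- near a rational point where the family is trivial, it is trivial -/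
theorem exists_nhd_trivial (h1 : Subsingleton (Coh.HH A.left (Coh.structureModule A.left) 1))
    (c : PicLoc.PicSet (A ⊗ T).left) (t : AVDeg.one' k ⟶ T) (ht : fib c t = 1) :
    ∃ U : T.left.Opens, t.left (closedPoint k) ∈ U ∧
      ∀ t' : AVDeg.one' k ⟶ T, t'.left (closedPoint k) ∈ U → fib c t' = 1 := by
  let f : (A ⊗ T).left ⟶ T.left := (snd A T).left
  haveI : IsProper f := MorphismProperty.pullback_snd (P := @IsProper) A.hom T.hom inferInstance
  haveI : Flat A.hom := inferInstance
  haveI : Flat f := MorphismProperty.pullback_snd (P := @Flat) A.hom T.hom inferInstance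
  haveI : LocallyOfFinitePresentation A.hom :=
    (LocallyOfFinitePresentation.iff_locallyOfFiniteType (f := A.hom)).2 inferInstance
  haveI : LocallyOfFinitePresentation f :=
    MorphismProperty.pullback_snd (P := @LocallyOfFinitePresentation) A.hom T.hom inferInstance
  let t₀ : Spec (CommRingCat.of k) ⟶ T.left := t.left
  let y : T.left := t₀ (closedPoint k)
  let φ : T.left.residueField y ⟶ CommRingCat.of k := T.left.descResidueField (Scheme.stalkClosedPointTo t₀)
  have hφ : Spec.map φ ≫ T.left.fromSpecResidueField y = t.left :=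
    Scheme.descResidueField_stalkClosedPointTo_fromSpecResidueField k T.left t₀
  haveI : IsIso φ := by
    let ρ : CommRingCat.of k ⟶ T.left.residueField y := Spec.preimage (T.left.fromSpecResidueField y ≫ T.hom)
    have hρ : ρ ≫ φ = 𝟙 _ := by
      apply Spec.map_injective
      rw [Spec.map_comp, Spec.map_preimage, Spec.map_id, reassoc_of% hφ]
      exact Over.w t
    rw [ConcreteCategory.isIso_iff_bijective]
    exact ⟨φ.hom.injective, fun a => ⟨ρ a, congrArg (fun e : CommRingCat.of k ⟶ CommRingCat.of k => e.hom a) hρ⟩⟩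
  have hinv : T.left.fromSpecResidueField y ≫ T.hom = inv (Spec.map φ) :=
    IsIso.eq_inv_of_hom_inv_id (by rw [reassoc_of% hφ]; exact Over.w t)
  let σ : A.left ⟶ (A ⊗ T).left := (lift (𝟙 A) (pt A t)).left
  have hσ1 : σ ≫ (fst A T).left = 𝟙 A.left :=
    (congrArg CommaMorphism.left (lift_fst (𝟙 A) (pt A t))).trans (Over.id_left A)
  have hσ2 : σ ≫ f = A.hom ≫ t.left := (congrArg CommaMorphism.left (lift_snd (𝟙 A) (pt A t))).trans rfl
  let δ : A.left ⟶ f.fiber y := pullback.lift σ (A.hom ≫ Spec.map φ) (by rw [hσ2, Category.assoc, hφ])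
  have hδ : δ ≫ f.fiberι y = σ := pullback.lift_fst _ _ _
  let δ' : f.fiber y ⟶ A.left := f.fiberι y ≫ (fst A T).left
  have hfac : δ' ≫ σ = f.fiberι y := by
    have hw : (fst A T).left ≫ A.hom = f ≫ T.hom := (Over.w (fst A T)).trans (Over.w (snd A T)).symm
    refine pullback.hom_ext ?_ ?_
    · change (δ' ≫ σ) ≫ (fst A T).left = f.fiberι y ≫ (fst A T).left
      rw [Category.assoc, hσ1, Category.comp_id]
    · change (δ' ≫ σ) ≫ f = f.fiberι y ≫ f
      have hc : f.fiberι y ≫ f = f.fiberToSpecResidueField y ≫ T.left.fromSpecResidueField y := pullback.condition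
      rw [Category.assoc, hσ2, Category.assoc, reassoc_of% hw, reassoc_of% hc, hc, reassoc_of% hinv]
      congr 1
      rw [← hφ, IsIso.inv_hom_id_assoc]
  haveI : IsIso δ := by
    refine ⟨δ', ?_, ?_⟩
    · rw [reassoc_of% hδ, hσ1]
    · refine pullback.hom_ext ?_ ?_
      · change (δ' ≫ δ) ≫ f.fiberι y = 𝟙 _ ≫ f.fiberι y
        rw [Category.assoc, hδ, hfac, Category.id_comp]
      · have hw : (fst A T).left ≫ A.hom = f ≫ T.hom := (Over.w (fst A T)).trans (Over.w (snd A T)).symm
        have hc : f.fiberι y ≫ f = f.fiberToSpecResidueField y ≫ T.left.fromSpecResidueField y := pullback.condition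
        rw [Category.assoc, pullback.lift_snd, Category.assoc, reassoc_of% hw, reassoc_of% hc, reassoc_of% hinv,
          IsIso.inv_hom_id, Category.comp_id, Category.id_comp]
        rfl
  obtain ⟨L, hL, rfl⟩ := PicGrp.exists_eq_cls c
  rw [fib, pull_cls, PicGrp.cls_eq_one_iff] at ht
  obtain ⟨e⟩ := ht
  have hfib : CohIII.fiberMod f L y ≅ Coh.structureModule (f.fiber y) :=
    (Scheme.Modules.pullbackCongr hfac.symm).app L ≪≫ ((Scheme.Modules.pullbackComp δ' σ).symm.app L) ≪≫
      (Scheme.Modules.pullback δ').mapIso e ≪≫ PicLoc.pullbackStructureIso δ'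
  haveI : IsIso δ' := by
    have : δ' = inv δ := (IsIso.inv_eq_of_hom_inv_id (by rw [reassoc_of% hδ, hσ1])).symm
    rw [this]; infer_instance
  obtain ⟨U, g, hyU, hg⟩ := PicFam.exists_gen_near f L hL y (S11764.subsingleton_of_iso δ' h1) hfib
  refine ⟨U, hyU, fun t' ht' => ?_⟩
  let σ' : A.left ⟶ (A ⊗ T).left := (lift (𝟙 A) (pt A t')).left
  have hle : (⊤ : A.left.Opens) ≤ σ' ⁻¹ᵁ (f ⁻¹ᵁ U) := fun x _ => by
    change (σ' ≫ f) x ∈ U
    rw [show σ' ≫ f = A.hom ≫ t'.left from (congrArg CommaMorphism.left (lift_snd (𝟙 A) (pt A t'))).trans rfl,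
      Scheme.Hom.comp_apply]
    rwa [show A.hom x = closedPoint k from Subsingleton.elim (α := PrimeSpectrum k) _ _]
  rw [fib, pull_cls, PicGrp.cls_eq_one_iff]
  exact PicFam.nonempty_iso_of_gen ((C1Cap.isGen_eta σ' hg).res hle)

variable [IsAlgClosed k]

set_option maxHeartbeats 2000000 in
/-- **a connected family is constant** -/
theorem fib_eq [ConnectedSpace T.left] (h1 : Subsingleton (Coh.HH A.left (Coh.structureModule A.left) 1))
    (d : PicLoc.PicSet (A ⊗ T).left) (a b : AVDeg.one' k ⟶ T) : fib d a = fib d b := by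
  haveI : JacobsonSpace T.left := LocallyOfFiniteType.jacobsonSpace T.hom
  have hN : ∀ t : AVDeg.one' k ⟶ T, ∃ N : T.left.Opens, t.left (closedPoint k) ∈ N ∧
      ∀ t' : AVDeg.one' k ⟶ T, t'.left (closedPoint k) ∈ N → fib d t' = fib d t := fun t => by
    obtain ⟨U, hU, hU'⟩ := exists_nhd_trivial A h1 (d * (pull (fst A T).left (fib d t))⁻¹) t
      (by rw [PicRoot.fib_mul, PicRoot.fib_inv, PicRoot.fib_fst, mul_inv_cancel])
    refine ⟨U, hU, fun t' ht' => ?_⟩
    have h := hU' t' ht'
    rwa [PicRoot.fib_mul, PicRoot.fib_inv, PicRoot.fib_fst, mul_inv_eq_one] at h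
  choose N hNmem hNconst using hN
  let O₁ : T.left.Opens := ⨆ t : {t // fib d t = fib d b}, N t.1
  let O₂ : T.left.Opens := ⨆ t : {t // fib d t ≠ fib d b}, N t.1
  have hcl : ∀ z : T.left, IsClosed ({z} : Set T.left) → z ∈ O₁ ⊔ O₂ := fun z hz => by
    obtain ⟨t, rfl⟩ := AVRat.exists_point hz
    by_cases h : fib d t = fib d b
    · exact Or.inl (Opens.mem_iSup.2 ⟨⟨t, h⟩, hNmem t⟩)
    · exact Or.inr (Opens.mem_iSup.2 ⟨⟨t, h⟩, hNmem t⟩)
  have hcov : (O₁ : Set T.left) ∪ O₂ = Set.univ := by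
    by_contra hne
    obtain ⟨z, hz, hzc⟩ := nonempty_inter_closedPoints (Z := ((O₁ : Set T.left) ∪ O₂)ᶜ)
      (Set.nonempty_compl.2 hne) ((O₁.2.union O₂.2).isClosed_compl.isLocallyClosed)
    exact hz (hcl z hzc)
  have hdisj : (O₁ : Set T.left) ∩ O₂ = ∅ := by
    by_contra hne
    obtain ⟨z, ⟨hz₁, hz₂⟩, hzc⟩ := nonempty_inter_closedPoints (Set.nonempty_iff_ne_empty.2 hne)
      (O₁.2.inter O₂.2).isLocallyClosed
    obtain ⟨t, rfl⟩ := AVRat.exists_point (hzc : IsClosed ({z} : Set T.left))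
    obtain ⟨⟨t₁, h₁⟩, ht₁⟩ := Opens.mem_iSup.1 hz₁
    obtain ⟨⟨t₂, h₂⟩, ht₂⟩ := Opens.mem_iSup.1 hz₂
    exact h₂ (((hNconst t₂ t ht₂).symm.trans (hNconst t₁ t ht₁)).trans h₁)
  have hclop : IsClopen (O₁ : Set T.left) := ⟨by
    rw [show (O₁ : Set T.left) = (O₂ : Set T.left)ᶜ from Set.ext fun z =>
      ⟨fun h₁ h₂ => (hdisj.le ⟨h₁, h₂⟩ : _), fun h₂ => (hcov.ge (Set.mem_univ z)).resolve_right h₂⟩]
    exact O₂.2.isClosed_compl, O₁.2⟩
  have hb : b.left (closedPoint k) ∈ O₁ := Opens.mem_iSup.2 ⟨⟨b, rfl⟩, hNmem b⟩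
  have huniv := hclop.eq_univ ⟨_, hb⟩
  obtain ⟨⟨t, ht⟩, hat⟩ := Opens.mem_iSup.1 (huniv.ge (Set.mem_univ (a.left (closedPoint k))))
  exact (hNconst t a hat).trans ht

end Groth.Agent.PicH1
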